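import Mathlib
import Groth.Prelude.Def_RelSpec
import Groth.Prelude.Def_Coh
import Groth.Agent.S3569
import Groth.Agent.S8255
import Groth.Agent.AmpleLib.Gen

/-!
# Morphisms into a relative spectrum
-/

set_option autoImplicit false
set_option linter.style.haveILetI false
set_option linter.unusedSectionVars false

universe u

open AlgebraicGeometry CategoryTheory CategoryTheory.Limits Opposite TopologicalSpace

noncomputable section

namespace CycBdlLib

variable {X T : Scheme.{u}}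



instance isIso_gammaMap (A : RelSpec.QCAlg X) : IsIso A.gammaMap := Groth.Agent.S8255.result A

/-- The universal family of a relative spectrum. -/
def toF (A : RelSpec.QCAlg X) : A.presheaf ⟶ A.π.base _* A.spec.presheaf := inv A.gammaMap

theorem str_toF (A : RelSpec.QCAlg X) : A.str ≫ toF A = A.π.c := by
  rw [toF, IsIso.comp_inv_eq, A.π_c_gammaMap]

theorem preimage_le {Y : Scheme.{u}} {f : Y ⟶ X} {h : T ⟶ Y} {g : T ⟶ X} (hg : h ≫ f = g) (W : X.Opens) :
    g ⁻¹ᵁ W ≤ h ⁻¹ᵁ (f ⁻¹ᵁ W) := by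
  subst hg; exact le_refl _

theorem toF_algHom_app (A : RelSpec.QCAlg X) (g : T ⟶ X) (h : T ⟶ A.spec) (hg : h ≫ A.π = g) (W : X.Opens)
    (a : A.presheaf.obj (op W)) :
    ((toF A ≫ AffAlg.algHom A.π g h hg).app (op W)).hom a =
      h.appLE (A.π ⁻¹ᵁ W) (g ⁻¹ᵁ W) (preimage_le hg W) ((toF A).app (op W) a) := by
  rw [NatTrans.comp_app, Groth.Agent.S3569.algHom_app]
  rfl

/-- Morphisms into a relative spectrum are homomorphisms of algebras. -/
theorem pts (A : RelSpec.QCAlg X) (g : T ⟶ X) [QuasiCompact g] [QuasiSeparated g]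
    (ω : A ⟶ RelSpec.QCAlg.directImage g) :
    ∃! h : T ⟶ A.spec, ∃ hg : h ≫ A.π = g, toF A ≫ AffAlg.algHom A.π g h hg = ω.hom := by
  have hb := Groth.Agent.S3569.result A.π g
  have hc : A.π.c ≫ A.gammaMap ≫ ω.hom = g.c := by
    rw [← Category.assoc, A.π_c_gammaMap]
    exact ω.comm
  obtain ⟨⟨h, hg⟩, e⟩ := hb.2 ⟨A.gammaMap ≫ ω.hom, hc⟩
  have e' : AffAlg.algHom A.π g h hg = A.gammaMap ≫ ω.hom := congrArg Subtype.val e
  refine ⟨h, ⟨hg, by rw [e']; exact IsIso.inv_hom_id_assoc A.gammaMap ω.hom⟩, ?_⟩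
  rintro h' ⟨hg', e''⟩
  refine congrArg Subtype.val (hb.1 (a₁ := ⟨h', hg'⟩) (a₂ := ⟨h, hg⟩) (Subtype.ext ?_))
  show AffAlg.algHom A.π g h' hg' = AffAlg.algHom A.π g h hg
  haveI : Epi (toF A) := by unfold toF; infer_instance
  rw [← cancel_epi (toF A), e'', e']
  exact (IsIso.inv_hom_id_assoc A.gammaMap ω.hom).symm

theorem gammaAff_specMap {A B : RelSpec.QCAlg X} (φ : A ⟶ B) {U : X.Opens} (hU : IsAffineOpen U)
    (h : B.π ⁻¹ᵁ U ≤ RelSpec.QCAlg.specMap φ ⁻¹ᵁ (A.π ⁻¹ᵁ U)) :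
    (RelSpec.QCAlg.specMap φ).appLE (A.π ⁻¹ᵁ U) (B.π ⁻¹ᵁ U) h ≫ B.gammaAff U hU =
      A.gammaAff U hU ≫ φ.hom.app (op U) := by
  simp only [RelSpec.QCAlg.gammaAff, Category.assoc, ← Scheme.ΓSpecIso_naturality]
  simp only [← Category.assoc]
  congr 1
  rw [Scheme.Hom.appLE_comp_appLE]
  have h1 : ∀ {k k' : Spec (B.presheaf.obj (op U)) ⟶ A.spec} (_ : k = k') (e : ⊤ ≤ k ⁻¹ᵁ (A.π ⁻¹ᵁ U))
      (e' : ⊤ ≤ k' ⁻¹ᵁ (A.π ⁻¹ᵁ U)), k.appLE (A.π ⁻¹ᵁ U) ⊤ e = k'.appLE (A.π ⁻¹ᵁ U) ⊤ e' := by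
    intro k k' e _ _; subst e; rfl
  rw [h1 (RelSpec.QCAlg.ι_specMap U hU φ) _ (fun z _ => A.top_le_preimage U hU trivial),
    ← Scheme.Hom.appLE_comp_appLE _ _ (A.π ⁻¹ᵁ U) ⊤ ⊤ (A.top_le_preimage U hU) (le_refl _), Scheme.Hom.appTop]
  exact congrArg (_ ≫ ·) (Scheme.Hom.appLE_eq_app _)

theorem toF_specMap {A B : RelSpec.QCAlg X} (φ : A ⟶ B) :
    toF A ≫ AffAlg.algHom A.π B.π (RelSpec.QCAlg.specMap φ) (RelSpec.QCAlg.specMap_π φ) = φ.hom ≫ toF B := by
  rw [toF, toF, IsIso.inv_comp_eq, ← Category.assoc, IsIso.eq_comp_inv]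
  apply (Functor.IsCoverDense.restrictHomEquivHom (G := Scheme.AffineZariskiSite.toOpensFunctor X)
    (K := Opens.grothendieckTopology X) (ℱ := A.π.base _* A.spec.presheaf)
    (ℱ' := (⟨B.presheaf, B.isSheaf⟩ : TopCat.Sheaf CommRingCat.{u} X.carrier))).symm.injective
  ext U : 2
  change (AffAlg.algHom A.π B.π (RelSpec.QCAlg.specMap φ) _).app (op U.unop.1) ≫ B.gammaMap.app (op U.unop.1) =
    A.gammaMap.app (op U.unop.1) ≫ φ.hom.app (op U.unop.1)
  rw [A.gammaMap_app U.unop.1 U.unop.2, B.gammaMap_app U.unop.1 U.unop.2, Groth.Agent.S3569.algHom_app]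
  exact gammaAff_specMap φ U.unop.2 _

variable {E : X.Modules}

/-- Read a map to a direct image algebra as a map to a pushforward. -/
def toPush {g : T ⟶ X} [QuasiCompact g] [QuasiSeparated g] (ψ : E ⟶ (RelSpec.QCAlg.directImage g).toModule) :
    E ⟶ (Scheme.Modules.pushforward g).obj (Coh.structureModule T) :=
  ⟨PresheafOfModules.homMk
    { app := fun W => AddCommGrpCat.ofHom (AddMonoidHom.mk' (fun m => ψ.app W.unop m) fun a b => map_add _ a b)
      naturality := fun W W' i => by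
        ext m
        exact QCohLib.app_map ψ i.unop m }
    fun W r m => QCohLib.app_smul ψ W.unop r m⟩

/-- Read a map to a pushforward as a map to a direct image algebra. -/
def ofPush {g : T ⟶ X} [QuasiCompact g] [QuasiSeparated g]
    (ψ : E ⟶ (Scheme.Modules.pushforward g).obj (Coh.structureModule T)) :
    E ⟶ (RelSpec.QCAlg.directImage g).toModule :=
  ⟨letI := (RelSpec.QCAlg.directImage g).moduleSect
   PresheafOfModules.homMk
    { app := fun W => AddCommGrpCat.ofHom (AddMonoidHom.mk' (fun m => ψ.app W.unop m) fun a b => map_add _ a b)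
      naturality := fun W W' i => by
        ext m
        exact QCohLib.app_map ψ i.unop m }
    fun W r m => QCohLib.app_smul ψ W.unop r m⟩

variable {A : RelSpec.QCAlg X} {j : E ⟶ A.toModule}

/-- The universal map of a relative spectrum of a symmetric algebra. -/
def univMap (j : E ⟶ A.toModule) : E ⟶ (Scheme.Modules.pushforward A.π).obj (Coh.structureModule A.spec) :=
  toPush (j ≫ RelSpec.QCAlg.Hom.toModuleMap
    (⟨toF A, str_toF A⟩ : A ⟶ RelSpec.QCAlg.directImage A.π))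

theorem univMap_app (j : E ⟶ A.toModule) (W : X.Opens) (m : Γ(E, W)) :
    (univMap j).app W m = (toF A).app (op W) (j.app W m) := rfl

/-- Morphisms into the relative spectrum of a symmetric algebra are module maps. -/
theorem symPts (hj : RelSpec.IsSymAlg E A j) (g : T ⟶ X) [QuasiCompact g] [QuasiSeparated g]
    (ψ : E ⟶ (Scheme.Modules.pushforward g).obj (Coh.structureModule T)) :
    ∃! h : T ⟶ A.spec, ∃ hg : h ≫ A.π = g, ∀ (W : X.Opens) (m : Γ(E, W)),
      h.appLE (A.π ⁻¹ᵁ W) (g ⁻¹ᵁ W) (preimage_le hg W) ((univMap j).app W m) = ψ.app W m := by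
  obtain ⟨ω, hω, huω⟩ := hj (RelSpec.QCAlg.directImage g) (ofPush ψ)
  obtain ⟨h, ⟨hg, e⟩, hu⟩ := pts A g ω
  refine ⟨h, ⟨hg, fun W m => ?_⟩, ?_⟩
  · rw [univMap_app, ← toF_algHom_app A g h hg, e]
    exact congr($(hω).app W m)
  · rintro h' ⟨hg', e'⟩
    refine hu h' ⟨hg', ?_⟩
    let ω' : A ⟶ RelSpec.QCAlg.directImage g := ⟨toF A ≫ AffAlg.algHom A.π g h' hg', by
      rw [← Category.assoc, str_toF]
      exact AffAlg.algHom_comm A.π g h' hg'⟩
    suffices ω' = ω from congrArg RelSpec.QCAlg.Hom.hom this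
    refine huω ω' (Scheme.Modules.hom_ext _ _ fun W => ConcreteCategory.hom_ext _ _ fun m => ?_)
    show ((toF A ≫ AffAlg.algHom A.π g h' hg').app (op W)).hom (j.app W m) = ψ.app W m
    rw [toF_algHom_app]
    exact e' W m

end CycBdlLib

end
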