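import Mathlib
import Groth.Agent.CycBdlLib.Pts
import Groth.Agent.CycPBLib.WhitGeom

/-!
# The open of a projective bundle where a section generates, as a torsor
-/

set_option autoImplicit false
set_option linter.style.haveILetI false
set_option linter.unusedSectionVars false

universe u

open AlgebraicGeometry CategoryTheory CategoryTheory.Limits Opposite TopologicalSpace
open AmpleLib (res GenOn GenAt)
open KFlatLib (pb puSec)

noncomputable section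

namespace CycBdlLib

variable {X P T T' B : Scheme.{u}} {E : X.Modules}

/-- `(B, φ)` classifies the maps from `E` to functions with value `c` on `σ`. -/
structure IsTorsor (πB : B ⟶ X) (φ : E ⟶ (Scheme.Modules.pushforward πB).obj (Coh.structureModule B))
    (σ : Γ(E, ⊤)) (c : Γ(X, ⊤)) : Prop where
  val : φ.app ⊤ σ = πB.app ⊤ c
  univ : ∀ (T : Scheme.{u}) (g : T ⟶ X) [QuasiCompact g] [QuasiSeparated g]
    (ψ : E ⟶ (Scheme.Modules.pushforward g).obj (Coh.structureModule T)), ψ.app ⊤ σ = g.app ⊤ c →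
    ∃! h : T ⟶ B, ∃ hg : h ≫ πB = g, ∀ (W : X.Opens) (m : Γ(E, W)),
      h.appLE (πB ⁻¹ᵁ W) (g ⁻¹ᵁ W) (preimage_le hg W) (φ.app W m) = ψ.app W m

variable {p : P ⟶ X} {O1 : P.Modules} (q : pb p E ⟶ O1) (hinv : PicF.IsInvertible O1) (σ : Γ(E, ⊤))

/-- The open where `σ` generates `O(1)`. -/
def sigOpen : P.Opens := CycPBLib.genLocus' (q.app (p ⁻¹ᵁ ⊤) (puSec p σ)) hinv

/-- `σ` over that open. -/
def eU : Γ(O1, sigOpen q hinv σ) :=
  res O1 (CycPBLib.genLocus'_le _ hinv) (q.app (p ⁻¹ᵁ ⊤) (puSec p σ))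

theorem genOn_eU : GenOn O1 (eU q hinv σ) := CycPBLib.genLocus'_genOn _ hinv

theorem existsUnique_coef {W : X.Opens} (m : Γ(E, W)) :
    ∃! r : Γ(P, sigOpen q hinv σ ⊓ p ⁻¹ᵁ W), r • res O1 inf_le_left (eU q hinv σ) =
      res O1 inf_le_right (q.app (p ⁻¹ᵁ W) (puSec p m)) :=
  (genOn_eU q hinv σ _ inf_le_left).existsUnique _

/-- The coordinate of a section of `E`. -/
def coef {W : X.Opens} (m : Γ(E, W)) : Γ(P, sigOpen q hinv σ ⊓ p ⁻¹ᵁ W) :=
  (existsUnique_coef q hinv σ m).exists.choose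

theorem coef_spec {W : X.Opens} (m : Γ(E, W)) :
    coef q hinv σ m • res O1 inf_le_left (eU q hinv σ) =
      res O1 inf_le_right (q.app (p ⁻¹ᵁ W) (puSec p m)) :=
  (existsUnique_coef q hinv σ m).exists.choose_spec

theorem coef_self : coef q hinv σ σ = 1 := by
  refine (existsUnique_coef q hinv σ σ).unique (coef_spec q hinv σ σ) ?_
  rw [one_smul, eU, AmpleLib.res_res]

theorem le_coef {f : T ⟶ P} {g : T ⟶ X} (hf : f ≫ p = g) (hU : ∀ t, f t ∈ sigOpen q hinv σ) (W : X.Opens) :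
    g ⁻¹ᵁ W ≤ f ⁻¹ᵁ (sigOpen q hinv σ ⊓ p ⁻¹ᵁ W) := fun t ht => by
  subst hf; exact ⟨hU t, ht⟩

/-- The coordinate pulled back. -/
def coefPB {f : T ⟶ P} {g : T ⟶ X} (hf : f ≫ p = g) (hU : ∀ t, f t ∈ sigOpen q hinv σ) {W : X.Opens}
    (m : Γ(E, W)) : Γ(T, g ⁻¹ᵁ W) :=
  f.appLE _ _ (le_coef q hinv σ hf hU W) (coef q hinv σ m)

theorem coefPB_self {f : T ⟶ P} {g : T ⟶ X} (hf : f ≫ p = g) (hU : ∀ t, f t ∈ sigOpen q hinv σ) :
    coefPB q hinv σ hf hU σ = 1 := by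
  rw [coefPB, coef_self, map_one]

theorem appLE_coefPB {f : T ⟶ P} {g : T ⟶ X} (hf : f ≫ p = g) (hU : ∀ t, f t ∈ sigOpen q hinv σ)
    {h : T' ⟶ T} {g' : T' ⟶ X} (hg : h ≫ g = g') {W : X.Opens} (m : Γ(E, W)) :
    h.appLE (g ⁻¹ᵁ W) (g' ⁻¹ᵁ W) (preimage_le hg W) (coefPB q hinv σ hf hU m) =
      coefPB q hinv σ (f := h ≫ f) (g := g') (by rw [Category.assoc, hf, hg])
        (fun t => by rw [Scheme.Hom.comp_apply]; exact hU _) m := by
  rw [coefPB, coefPB, ← CommRingCat.comp_apply, Scheme.Hom.appLE_comp_appLE]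

/-- Maps landing in the open admit a trivialisation computing the coordinates. -/
theorem exists_triv {f : T ⟶ P} {g : T ⟶ X} (hf : f ≫ p = g) (hU : ∀ t, f t ∈ sigOpen q hinv σ) :
    ∃ i : pb f O1 ≅ Coh.structureModule T, ∀ (W : X.Opens) (m : Γ(E, W)),
      (CycPBLib.compQ q hf i.hom).app (g ⁻¹ᵁ W) (puSec g m) = coefPB q hinv σ hf hU m := by
  have htop : (⊤ : T.Opens) ≤ f ⁻¹ᵁ sigOpen q hinv σ := fun t _ => hU t
  have hG : GenOn (pb f O1) (res _ htop (puSec f (eU q hinv σ))) := TwistLib.genOn_of_genAt fun t ht => by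
    rw [AmpleLib.genAt_res htop _ ht]
    exact TwistLib.GenAt.puSec f ((genOn_eU q hinv σ).genAt (htop ht))
  obtain ⟨i, hi⟩ := CycPBLib.exists_iso_one _ hG
  refine ⟨i, fun W m => ?_⟩
  subst hf
  refine (CycPBLib.comp_apply_puSec q rfl i.hom m).trans ((congr($((Coh.structureModule T).presheaf.map_id _) _)).trans ?_)
  let V := sigOpen q hinv σ ⊓ p ⁻¹ᵁ W
  have hV : f ⁻¹ᵁ (p ⁻¹ᵁ W) ≤ f ⁻¹ᵁ V := fun t ht => ⟨hU t, ht⟩
  have h1 : puSec f (q.app (p ⁻¹ᵁ W) (puSec p m)) =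
      res (pb f O1) hV (puSec f (res O1 inf_le_right (q.app (p ⁻¹ᵁ W) (puSec p m)))) := by
    rw [TwistLib.puSec_res f (inf_le_right : V ≤ p ⁻¹ᵁ W), AmpleLib.res_res, AmpleLib.res_refl]
  rw [h1, ← coef_spec, TwistLib.puSec_smul, AmpleLib.res_smul, TwistLib.puSec_res f inf_le_left, AmpleLib.res_res]
  refine (congrArg (fun z => i.hom.app (f ⁻¹ᵁ (p ⁻¹ᵁ W)) (_ • z))
    (AmpleLib.res_res (pb f O1) htop le_top (puSec f (eU q hinv σ))).symm).trans ((hi _ _).trans ?_)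
  rw [coefPB, Scheme.Hom.appLE]
  rfl

theorem genAt_of_isUnit {W : T.Opens} {d : Γ(T, W)} (hd : IsUnit d) {t : T} (ht : t ∈ W) :
    GenAt (Coh.structureModule T) (W := W) d ht := by
  have h := (AmpleLib.genAt_smul_iff d (M := Coh.structureModule T) (1 : Γ(T, W)) (x := t) ht
    ((AmpleLib.one_genOn _).genAt ht)).2 (by rw [Scheme.basicOpen_of_isUnit _ hd]; exact ht)
  have e : d • (1 : Γ(T, W)) = d := mul_one d
  exact e ▸ h

theorem epi_of_unit_value {g : T ⟶ X} (s : pb g E ⟶ Coh.structureModule T) {d : Γ(T, g ⁻¹ᵁ ⊤)}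
    (hd : IsUnit d) (hs : s.app (g ⁻¹ᵁ ⊤) (puSec g σ) = d) : Epi s := by
  refine CycPBLib.epi_of_genAt s fun t => ⟨g ⁻¹ᵁ ⊤, Opens.mem_top _, puSec g σ, ?_⟩
  rw [hs]
  exact genAt_of_isUnit hd _

variable (hP : KRR.IsProjBundle p E O1 q)

include hP

/-- Maps into the open are determined by the coordinates. -/
theorem ext_coefPB {g : T ⟶ X} {f f' : T ⟶ P} (hf : f ≫ p = g) (hf' : f' ≫ p = g)
    (hU : ∀ t, f t ∈ sigOpen q hinv σ) (hU' : ∀ t, f' t ∈ sigOpen q hinv σ)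
    (h : ∀ (W : X.Opens) (m : Γ(E, W)), coefPB q hinv σ hf hU m = coefPB q hinv σ hf' hU' m) : f = f' := by
  obtain ⟨i, hi⟩ := exists_triv q hinv σ hf hU
  obtain ⟨i', hi'⟩ := exists_triv q hinv σ hf' hU'
  have e : CycPBLib.compQ q hf' i'.hom = CycPBLib.compQ q hf i.hom :=
    CycPBLib.hom_ext_pu g _ _ fun W m => by rw [hi, hi', h]
  haveI : Epi (CycPBLib.compQ q hf i.hom) :=
    epi_of_unit_value σ _ isUnit_one (by rw [hi, coefPB_self])
  obtain ⟨_, -, huniq⟩ := hP.univ T g _ (CohCmpLib.rank_one_structureModule T) (CycPBLib.compQ q hf i.hom) inferInstance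
  exact (huniq f ⟨hf, i, rfl⟩).trans (huniq f' ⟨hf', i', e⟩).symm

/-- A quotient with unit value on `σ` gives a map into the open. -/
theorem exists_map (g : T ⟶ X) (s : pb g E ⟶ Coh.structureModule T) {d : Γ(T, g ⁻¹ᵁ ⊤)}
    (hd : IsUnit d) (hs : s.app (g ⁻¹ᵁ ⊤) (puSec g σ) = d) :
    ∃ (f : T ⟶ P) (hf : f ≫ p = g) (hU : ∀ t, f t ∈ sigOpen q hinv σ), ∀ (W : X.Opens) (m : Γ(E, W)),
      s.app (g ⁻¹ᵁ W) (puSec g m) =
        T.presheaf.map (homOfLE (g.preimage_mono le_top)).op d * coefPB q hinv σ hf hU m := by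
  haveI := epi_of_unit_value σ s hd hs
  obtain ⟨f, ⟨hf, i, hi⟩, -⟩ := hP.univ T g _ (CohCmpLib.rank_one_structureModule T) s inferInstance
  subst hf
  have hv : ∀ (W : X.Opens) (m : Γ(E, W)), s.app ((f ≫ p) ⁻¹ᵁ W) (puSec (f ≫ p) m) =
      i.hom.app (f ⁻¹ᵁ (p ⁻¹ᵁ W)) (puSec f (q.app (p ⁻¹ᵁ W) (puSec p m))) := fun W m => by
    rw [← hi]
    exact (CycPBLib.comp_apply_puSec q rfl i.hom m).trans (congr($((Coh.structureModule T).presheaf.map_id _) _))
  have hU : ∀ t, f t ∈ sigOpen q hinv σ := fun t => by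
    have ht : f t ∈ p ⁻¹ᵁ (⊤ : X.Opens) := Opens.mem_top _
    refine ⟨ht, ?_⟩
    refine (CycPBLib.genAt_puSec_iff' f hinv _ (x := t) ht).1 ((TwistLib.genAt_app_iso i _ (x := t) ht).1 ?_)
    rw [← hv, hs]
    exact genAt_of_isUnit hd _
  refine ⟨f, rfl, hU, fun W m => ?_⟩
  let V := sigOpen q hinv σ ⊓ p ⁻¹ᵁ W
  have hV : f ⁻¹ᵁ (p ⁻¹ᵁ W) ≤ f ⁻¹ᵁ V := fun t ht => ⟨hU t, ht⟩
  have h1 : puSec f (q.app (p ⁻¹ᵁ W) (puSec p m)) =
      res (pb f O1) hV (puSec f (res O1 inf_le_right (q.app (p ⁻¹ᵁ W) (puSec p m)))) := by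
    rw [TwistLib.puSec_res f (inf_le_right : V ≤ p ⁻¹ᵁ W), AmpleLib.res_res, AmpleLib.res_refl]
  rw [hv, h1, ← coef_spec, TwistLib.puSec_smul, AmpleLib.res_smul, TwistLib.puSec_res f inf_le_left, AmpleLib.res_res]
  have h2 : ∀ (V' : T.Opens) (hle : V' ≤ f ⁻¹ᵁ sigOpen q hinv σ),
      res (pb f O1) hle (puSec f (eU q hinv σ)) =
        res (pb f O1) (hle.trans (f.preimage_mono (CycPBLib.genLocus'_le _ hinv)))
          (puSec f (q.app (p ⁻¹ᵁ ⊤) (puSec p σ))) := fun V' hle =>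
    (congrArg (res (pb f O1) hle) (TwistLib.puSec_res f (CycPBLib.genLocus'_le _ hinv) _)).trans
      (AmpleLib.res_res (pb f O1) _ hle _)
  refine (congrArg (fun z => i.hom.app (f ⁻¹ᵁ (p ⁻¹ᵁ W)) (_ • z)) (h2 _ _)).trans ?_
  refine (QCohLib.app_smul i.hom _ _ _).trans ?_
  refine (congrArg (_ • ·) ((QCohLib.app_map i.hom _ _).trans (congrArg _ ((hv ⊤ σ).symm.trans hs)))).trans ?_
  refine Eq.trans ?_ (mul_comm (coefPB q hinv σ rfl hU m) _)
  rfl

/-- The open is the torsor. -/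
theorem exists_iso [IsLocallyNoetherian P] [QuasiCompact p] [QuasiSeparated p] {πB : B ⟶ X}
    {φ : E ⟶ (Scheme.Modules.pushforward πB).obj (Coh.structureModule B)} {c : Γ(X, ⊤)}
    (hB : IsTorsor πB φ σ c) (hc : IsUnit c) [QuasiCompact πB] [QuasiSeparated πB] :
    ∃ θ : (↑(sigOpen q hinv σ) : Scheme.{u}) ≅ B, θ.hom ≫ πB = (sigOpen q hinv σ).ι ≫ p := by
  let U := sigOpen q hinv σ
  let ι := U.ι
  let g := ι ≫ p
  have hιU : ∀ u, ι u ∈ U := fun u => u.2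
  -- the family on the open
  obtain ⟨i, hi⟩ := exists_triv q hinv σ (rfl : ι ≫ p = g) hιU
  let ψ₀ := (Scheme.Modules.pullbackPushforwardAdjunction g).homEquiv _ _ (CycPBLib.compQ q (rfl : ι ≫ p = g) i.hom)
  have hψ₀ : ∀ (W : X.Opens) (m : Γ(E, W)), ψ₀.app W m = coefPB q hinv σ (rfl : ι ≫ p = g) hιU m := fun W m => by
    rw [← hi]
    rfl
  let ψ : E ⟶ (Scheme.Modules.pushforward g).obj (Coh.structureModule (↑U : Scheme.{u})) :=
    ψ₀ ≫ (Scheme.Modules.pushforward g).map (QCohLib.unitHom (Coh.structureModule (↑U : Scheme.{u})) (g.app ⊤ c))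
  have hψ : ∀ (W : X.Opens) (m : Γ(E, W)),
      ψ.app W m = coefPB q hinv σ (rfl : ι ≫ p = g) hιU m *
        (↑U : Scheme.{u}).presheaf.map (homOfLE (g.preimage_mono le_top)).op (g.app ⊤ c) := fun W m => by
    rw [← hψ₀]
    exact QCohLib.unitHom_app (Coh.structureModule (↑U : Scheme.{u})) (g.app ⊤ c) _ _
  haveI : QuasiCompact g := inferInstance
  haveI : QuasiSeparated g := inferInstance
  obtain ⟨θ, ⟨hθ, hθv⟩, -⟩ := hB.univ _ g ψ (by
    refine (hψ ⊤ σ).trans ?_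
    rw [coefPB_self]
    exact (one_mul _).trans congr($(((↑U : Scheme.{u})).presheaf.map_id _) _))
  -- the map to the bundle
  let s := ((Scheme.Modules.pullbackPushforwardAdjunction πB).homEquiv _ _).symm φ
  have hsv : ∀ (W : X.Opens) (m : Γ(E, W)), s.app (πB ⁻¹ᵁ W) (puSec πB m) = φ.app W m := fun W m =>
    congr($(((Scheme.Modules.pullbackPushforwardAdjunction πB).homEquiv_unit _ _ s).symm.trans
      (Equiv.apply_symm_apply _ φ)).app W m)
  obtain ⟨f, hf, hfU, hfv⟩ := exists_map q hinv σ hP πB s (d := πB.app ⊤ c) (hc.map _) ((hsv ⊤ σ).trans hB.val)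
  let f' : B ⟶ (↑U : Scheme.{u}) := IsOpenImmersion.lift ι f (by
    rintro _ ⟨b, rfl⟩
    rw [U.range_ι]
    exact hfU b)
  have hf' : f' ≫ ι = f := IsOpenImmersion.lift_fac _ _ _
  have hf'g : f' ≫ g = πB := by rw [← Category.assoc, hf', hf]
  refine ⟨⟨θ, f', ?_, ?_⟩, hθ⟩
  · rw [← cancel_mono ι, Category.assoc, hf', Category.id_comp]
    refine ext_coefPB q hinv σ hP (g := g) (by rw [Category.assoc, hf, hθ]) rfl
      (fun u => by rw [Scheme.Hom.comp_apply]; exact hfU _) hιU fun W m => ?_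
    have hφ : (φ.app W m : Γ(B, πB ⁻¹ᵁ W)) = B.presheaf.map (homOfLE (πB.preimage_mono le_top)).op (πB.app ⊤ c) *
        coefPB q hinv σ hf hfU m := (hsv W m).symm.trans (hfv W m)
    have h : θ.appLE (πB ⁻¹ᵁ W) (g ⁻¹ᵁ W) (preimage_le hθ W)
        (B.presheaf.map (homOfLE (πB.preimage_mono le_top)).op (πB.app ⊤ c) * coefPB q hinv σ hf hfU m) =
        coefPB q hinv σ (rfl : ι ≫ p = g) hιU m *
          (↑U : Scheme.{u}).presheaf.map (homOfLE (g.preimage_mono le_top)).op (g.app ⊤ c) :=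
      (congrArg _ hφ.symm).trans ((hθv W m).trans (hψ W m))
    rw [map_mul, appLE_coefPB q hinv σ hf hfU hθ] at h
    have hu : IsUnit ((↑U : Scheme.{u}).presheaf.map (homOfLE (g.preimage_mono (le_top : W ≤ ⊤))).op (g.app ⊤ c)) :=
      (hc.map _).map _
    have hcc : θ.appLE (πB ⁻¹ᵁ W) (g ⁻¹ᵁ W) (preimage_le hθ W)
        (B.presheaf.map (homOfLE (πB.preimage_mono (le_top : W ≤ ⊤))).op (πB.app ⊤ c)) =
        (↑U : Scheme.{u}).presheaf.map (homOfLE (g.preimage_mono le_top)).op (g.app ⊤ c) := by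
      rw [← CommRingCat.comp_apply, ← CommRingCat.comp_apply, Scheme.Hom.map_appLE, Scheme.Hom.app_eq_appLE,
        Scheme.Hom.appLE_comp_appLE]
      simp only [Scheme.Hom.app_eq_appLE, ← CommRingCat.comp_apply, Scheme.Hom.appLE_map]
      congr 2
      simp only [hθ]
    rw [hcc, mul_comm] at h
    exact hu.mul_right_cancel h
  · obtain ⟨_, -, huniq⟩ := hB.univ B πB φ hB.val
    refine (huniq _ ⟨by rw [Category.assoc, hθ, hf'g], fun W m => ?_⟩).trans (huniq _ ⟨Category.id_comp _, fun W m => ?_⟩).symm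
    · have e1 : (f' ≫ θ).appLE (πB ⁻¹ᵁ W) (πB ⁻¹ᵁ W) (preimage_le (by rw [Category.assoc, hθ, hf'g]) W) =
          θ.appLE (πB ⁻¹ᵁ W) (g ⁻¹ᵁ W) (preimage_le hθ W) ≫ f'.appLE (g ⁻¹ᵁ W) (πB ⁻¹ᵁ W) (preimage_le hf'g W) :=
        (Scheme.Hom.appLE_comp_appLE _ _ _ _ _ _ _).symm
      have hφ : (φ.app W m : Γ(B, πB ⁻¹ᵁ W)) = B.presheaf.map (homOfLE (πB.preimage_mono le_top)).op (πB.app ⊤ c) *
          coefPB q hinv σ hf hfU m := (hsv W m).symm.trans (hfv W m)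
      rw [e1, CommRingCat.comp_apply]
      refine (congrArg _ ((hθv W m).trans (hψ W m))).trans (Eq.trans ?_ hφ.symm)
      refine (map_mul _ _ _).trans ((mul_comm _ _).trans ?_)
      rw [appLE_coefPB q hinv σ rfl hιU hf'g]
      congr 1
      · rw [← CommRingCat.comp_apply, Scheme.Hom.map_appLE]
        simp only [Scheme.Hom.app_eq_appLE, ← CommRingCat.comp_apply, Scheme.Hom.appLE_comp_appLE, Scheme.Hom.appLE_map]
        congr 2
        simp only [hf'g]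
      · simp only [hf']
    · simp only [Scheme.Hom.appLE, Scheme.Hom.id_app]
      exact congr($(B.presheaf.map_id _) _)

end CycBdlLib

end
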