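import Mathlib
import Groth.Agent.CycBdlLib.Torsor
import Groth.Agent.CycPBLib.WhitMain
import Groth.Agent.CycPBLib.RankOne
import Groth.Agent.CycBivLib.IsoPush
import Groth.Agent.CycBivLib.Clopen
import Groth.Agent.ProjBunLib.Split
import Groth.Agent.ProjBunLib.Filt
import Groth.Agent.CycPushLib.Restrict
import Groth.Agent.CycPBLib.FiltMain

/-!
# Injectivity of pullback to the complement of the bundle of a quotient
-/

set_option autoImplicit false
set_option linter.style.haveILetI false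
set_option linter.unusedSectionVars false

universe u

open AlgebraicGeometry CategoryTheory CategoryTheory.Limits Opposite
open AmpleLib (res GenOn GenAt)
open KFlatLib (pb puSec)
open CycPBLib (Bun genOpen)

noncomputable section

namespace CycBdlLib

variable {X P Y T : Scheme.{u}} {p : P ⟶ X} {O1 : P.Modules} {E F : X.Modules} {n : ℕ}

/-- If a multiple generates then the section does. -/
theorem genAt_of_smul {M : P.Modules} {W : P.Opens} (r : Γ(P, W)) (σ : Γ(M, W)) {z : P} (hz : z ∈ W)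
    (hM : PicF.IsInvertible M) (h : GenAt M (r • σ) hz) : GenAt M σ hz := by
  obtain ⟨V, e, hzV, he⟩ := TwistLib.exists_genOn hM z
  obtain ⟨d, hd⟩ := (he (V ⊓ W) inf_le_left).2 (res M inf_le_right σ)
  dsimp only at hd
  have hz' : z ∈ V ⊓ W := ⟨hzV, hz⟩
  have hE := (he.res (inf_le_left : V ⊓ W ≤ V)).genAt hz'
  rw [← AmpleLib.genAt_res (inf_le_right : V ⊓ W ≤ W) _ hz', AmpleLib.res_smul, ← hd, smul_smul,
    AmpleLib.genAt_smul_iff _ _ hz' hE, Scheme.basicOpen_mul] at h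
  rw [← AmpleLib.genAt_res (inf_le_right : V ⊓ W ≤ W) _ hz', ← hd, AmpleLib.genAt_smul_iff _ _ hz' hE]
  exact h.2

/-- The generating open of a map from the structure sheaf is that of the image of `1`. -/
theorem genOpen_eq_sigOpen (q : pb p E ⟶ O1) (hinv : PicF.IsInvertible O1) (a : Coh.structureModule X ⟶ E) :
    genOpen q a hinv = sigOpen q hinv (a.app ⊤ (1 : Γ(X, ⊤))) := by
  refine le_antisymm (fun z hz => ?_) fun z hz => ?_
  · obtain ⟨W, m, hzW, hgen⟩ := CycPBLib.mem_genOpen.1 hz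
    refine ⟨TopologicalSpace.Opens.mem_top _, ?_⟩
    let σ : Γ(E, ⊤) := a.app ⊤ (1 : Γ(X, ⊤))
    let m' : Γ(X, W) := m
    have h1 : a.app W m = m' • res E le_top σ := by
      refine Eq.trans (congrArg (a.app W) ?_) ((QCohLib.app_smul a W m' _).trans
        (congrArg (m' • ·) (QCohLib.app_map a (homOfLE (le_top : W ≤ ⊤)) (1 : Γ(X, ⊤)))))
      exact ((congrArg (m' * ·) (map_one (X.presheaf.map (homOfLE (le_top : W ≤ ⊤)).op).hom)).trans (mul_one m')).symm
    rw [h1, TwistLib.puSec_smul, QCohLib.app_smul, TwistLib.puSec_res p (le_top : W ≤ ⊤)] at hgen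
    have h2 := genAt_of_smul _ _ _ hinv hgen
    rwa [show q.app (p ⁻¹ᵁ W) (res (pb p E) (p.preimage_mono le_top) (puSec p σ)) =
      res O1 (p.preimage_mono le_top) (q.app (p ⁻¹ᵁ ⊤) (puSec p σ)) from
        QCohLib.app_map q (homOfLE (p.preimage_mono le_top)) _, AmpleLib.genAt_res] at h2
  · obtain ⟨hz', hgen⟩ := hz
    exact CycPBLib.mem_genOpen.2 ⟨⊤, (1 : Γ(X, ⊤)), hz', hgen⟩

/-- Flat pullback restricted to an open. -/
theorem pullFun_openImm (j : T ⟶ Y) [IsOpenImmersion j] (f : Y ⟶ X) {g : T ⟶ X} (w : j ≫ f = g)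
    (δY : Y → ℤ) (δ : X → ℤ) (c : ℤ) (A : X → ℤ) (t : T) :
    Cyc.pullFun g (fun t => δY (j t)) δ c A t = Cyc.pullFun f δY δ c A (j t) := by
  subst w
  have hl : Module.length (T.presheaf.stalk t) (T.presheaf.stalk t ⧸ CycLimLib.fibIdeal (j ≫ f) t) =
      Module.length (Y.presheaf.stalk (j t)) (Y.presheaf.stalk (j t) ⧸ CycLimLib.fibIdeal f (j t)) := by
    rw [CycGysLib.fibIdeal_comp]
    refine CycPushLib.length_quot_map_surjective _ (j.stalkMap_surjective t) _ ?_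
    rw [(RingHom.injective_iff_ker_eq_bot _).1 (ConcreteCategory.bijective_of_isIso (j.stalkMap t)).1]
    exact bot_le
  simp only [Cyc.pullFun, Scheme.Hom.comp_apply]
  exact if_congr Iff.rfl (congrArg (fun n : ℕ∞ => A (f (j t)) * (n.toNat : ℤ)) hl) rfl

theorem neg_one_smul_pull (B : Bun p O1 n) (t : Bun.Secs O1) (a : AlgebraicCycle X ℤ) (i : ℕ) (z : P) :
    B.caps t (B.pull (-a)) i z = -(B.caps t (B.pull a) i z) := by
  rw [show -a = (-1 : ℤ) • a from (neg_one_zsmul a).symm, B.caps_pull_smul, CycPBLib.smul_apply, neg_one_mul]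

/-- Pushing from the bundle of the quotient by a trivial line is one cap. -/
theorem exists_caps_one [IsProper p] {m : ℕ} (B : Bun p O1 (m + 1)) {q : pb p E ⟶ O1}
    (hE : FlatMod.IsFinLocFreeOfRank (m + 1 + 1) E) (hP : KRR.IsProjBundle p E O1 q)
    (hF : FlatMod.IsFinLocFreeOfRank (m + 1) F) (a : Coh.structureModule X ⟶ E) (b : E ⟶ F) (hab : a ≫ b = 0)
    (hex : (ShortComplex.mk a b hab).ShortExact) {P₂ : Scheme.{u}} {p₂ : P₂ ⟶ X} [IsProper p₂] {j : P₂ ⟶ P}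
    [IsClosedImmersion j] (B₂ : Bun p₂ (pb j O1) m) (hj : j ≫ p = p₂) (hX : B₂.δX = B.δX)
    (hrange : Set.range j = (genOpen q a B.hinv : Set P)ᶜ) (t : Bun.Secs O1) {d : ℤ}
    {c : AlgebraicCycle X ℤ} (hc : c ∈ Cyc.Zk X B.δX d) :
    Cyc.RatEquiv B.δP (d + m) (AlgebraicCycle.map j B₂.δP B.δP (B₂.pull c)) (B.caps t (B.pull c) 1) := by
  haveI := B.hX.1
  obtain ⟨P₁, p₁, O₁, q₁, δ₁, hP₁, hS₁, hδ₁, -⟩ :=
    ProjBunLib.exists_good_bundle B.hX (n := 0) (CohCmpLib.rank_one_structureModule X)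
  haveI := ProjBunLib.isProper hP₁ (CohCmpLib.rank_one_structureModule X)
  obtain ⟨B₁, hX₁, hd₁⟩ := CycPBLib.exists_bun' (n := 0) (CohCmpLib.rank_one_structureModule X) hP₁ B.hX hS₁ hδ₁
  obtain ⟨ε, hε⟩ := B₁.exists_chern (k := d) (α := c) (hX₁.symm ▸ hc)
  have hOinv : PicF.IsInvertible (Coh.structureModule X) :=
    (CohCmpLib.invertible_iff_rank_one _).2 (CohCmpLib.rank_one_structureModule X)
  let s : (ξ : X) → Cyc.secFibre (Coh.structureModule X) ξ := fun ξ =>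
    CycC1Lib.fib (Coh.structureModule X)
      ((Coh.structureModule X).presheaf.germ ⊤ ξ trivial (1 : Γ(X, ⊤)))
  have hs : ∀ ξ, s ξ ≠ 0 := CycC1Lib.fib_one_ne_zero
  have h1 : Cyc.RatEquivZero B.δX (d - 1) (ε 1) := by
    have e := CycPBLib.ratEquiv_c1_of_rank_one B₁ hOinv hP₁ (hX₁.symm ▸ hc) hε hs
    have z := CycC1Lib.c1Cap_structureModule B₁.hX (k := d - 1) c (by rw [sub_add_cancel, hX₁]; exact hc) s hs
      (CycC1Lib.capCyc B₁.hX hOinv c hs) rfl
    have w : Cyc.RatEquivZero B₁.δX (d - 1) (ε 1) :=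
      CycCommLib.ratEquivZero_add B₁.hX e z fun x => (sub_add_cancel _ _).symm
    rwa [hX₁] at w
  rw [hX₁, hd₁] at hε
  have hε0 := hε.1
  obtain ⟨z, hz, hzs, hR⟩ := CycPBLib.exists_rel_support B (by omega) hE hP
    (CohCmpLib.rank_one_structureModule X) hP₁ hF a b hab hex B.hinv hS₁ hδ₁ hε t
  have hdm : d - 1 + ((m + 1 : ℕ) : ℤ) = d + m := by push_cast; ring
  rw [hdm] at hz hR
  have h2 := B.rel_eq_push B₂ hj hX (r := 1) (by omega) hε.2.1 t hz
    (fun x hx => hzs x (by rw [hrange] at hx; exact not_not.1 hx)) hR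
  rw [hε0] at h2
  have hp : Cyc.RatEquivZero B.δP (d + m) (B.pull (ε 1)) := by
    have := B.pull_ratEquivZero (k := d - 1) (by simpa using hε.2.1 1) h1
    rwa [show d - 1 + ((m + 1 : ℕ) : ℤ) = d + m from hdm] at this
  refine CycCommLib.ratEquivZero_add B.hP h2 (CycCommLib.ratEquivZero_neg B.hP hp (γ := -(B.pull (ε 1))) fun _ => rfl) fun x => ?_
  show _ = (B.rel t 1 ε - ((-1 : ℤ) ^ 1) • AlgebraicCycle.map j B₂.δP B.δP (B₂.pull c)) x + -(B.pull (ε 1) x)
  show AlgebraicCycle.map j B₂.δP B.δP (B₂.pull c) x - B.caps t (B.pull c) 1 x =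
    B.rel t 1 ε x - (((-1 : ℤ) ^ 1) • AlgebraicCycle.map j B₂.δP B.δP (B₂.pull c)) x + -(B.pull (ε 1) x)
  rw [Bun.rel, Bun.cyc_sum_apply, Fin.sum_univ_two]
  simp only [CycPBLib.smul_apply, show Fin.rev (0 : Fin 2) = 1 from rfl, show Fin.rev (1 : Fin 2) = 0 from rfl, hε0]
  show _ = (_ * B.pull (ε 1) x + _ * _) - _ + _
  simp only [Fin.val_zero, Fin.val_one, pow_zero, pow_one]
  ring

/-- A cycle on the base pulling back to zero off the bundle of the quotient is zero. -/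
theorem ratEquivZero_of_off [IsProper p] (B : Bun p O1 n) {q : pb p E ⟶ O1}
    (hE : FlatMod.IsFinLocFreeOfRank (n + 1) E) (hP : KRR.IsProjBundle p E O1 q)
    (hF : FlatMod.IsFinLocFreeOfRank n F) (a : Coh.structureModule X ⟶ E) (b : E ⟶ F) (hab : a ≫ b = 0)
    (hex : (ShortComplex.mk a b hab).ShortExact) {k : ℤ} {α : AlgebraicCycle X ℤ} (hα : α ∈ Cyc.Zk X B.δX k)
    {z : AlgebraicCycle P ℤ} (hz : z ∈ Cyc.Zk P B.δP (k + n)) (hzs : ∀ x ∈ genOpen q a B.hinv, z x = 0)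
    (hR : Cyc.RatEquiv B.δP (k + n) (B.pull α) z) : Cyc.RatEquivZero B.δX k α := by
  classical
  cases n with
  | zero =>
    haveI := hP.epi
    have hF0 := ProjBunLib.isZero_of_rank_zero hF
    haveI : Mono a := hex.mono_f
    haveI : Epi a := (ShortComplex.exact_iff_epi _ (hF0.eq_of_tgt _ _)).1 hex.exact
    haveI : IsIso a := isIso_of_mono_of_epi a
    have hz0 : z = 0 := DFunLike.ext _ _ fun x => hzs x (by
      have htop := CycPBLib.genOpen_eq_top_of_iso (q := q) B.hinv (asIso a) hE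
      rw [asIso_hom] at htop
      rw [htop]
      trivial)
    rw [hz0] at hR
    have h := B.independent k (fun _ => α) (fun i => by simpa [Fin.eq_zero i] using hα) (fun _ => B.std)
      (B.pull α) (fun x => by rw [Fin.sum_univ_one]; rfl) (CycPBLib.ratEquiv_zero_iff.1 hR) 0
    simpa using h
  | succ m =>
    obtain ⟨P₂, p₂, O₂, q₂, δ₂, hP₂, hS₂, hδ₂, -⟩ := ProjBunLib.exists_good_bundle B.hX hF
    haveI := ProjBunLib.isProper hP₂ hF
    obtain ⟨j, i₂, hj, hjc, hrange⟩ := CycPBLib.exists_embedding (q := q) hP hP₂ hab hex B.hinv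
    haveI := hjc
    obtain ⟨B₂, hX₂, hd₂⟩ := CycPBLib.exists_bun' hF (CycPBLib.isProjBundle_iso hP₂ i₂.symm) B.hX hS₂ hδ₂
    have hjδ := B.deltaCompat_embedded B₂ hj hX₂
    have hδj : B₂.δP = fun d => B.δP (j d) := funext fun d => by
      obtain ⟨l, hl, h⟩ := hjδ d
      have h0 := CycPushLib.trdeg_preimmersion_left j d
      rw [Dual3.resTrdeg, hl] at h0
      have : l = 0 := by exact_mod_cast h0
      rw [h, this]; simp
    let z₂ := CycGysLib.restrictCyc j z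
    have hk : k + 1 + (m : ℤ) = k + ((m + 1 : ℕ) : ℤ) := by push_cast; ring
    have hz₂ : z₂ ∈ Cyc.Zk P₂ B₂.δP (k + 1 + m) := fun d hd => by
      rw [hδj, hk] at hd
      exact hz (j d) hd
    have hjz : AlgebraicCycle.map j B₂.δP B.δP z₂ = z := by
      rw [hδj]
      exact CycBivLib.map_restrict_of_supported j z fun x hx => hzs x (by rw [hrange] at hx; exact not_not.1 hx)
    let t₂ := CycPBLib.pullSecs j B.hinv B.std
    obtain ⟨c, hc, hspan⟩ := B₂.span (k + 1) (fun _ => t₂) z₂ hz₂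
    rw [hX₂] at hc
    let M : AlgebraicCycle P₂ ℤ →+ AlgebraicCycle P ℤ :=
      AddMonoidHom.ofMapSub (AlgebraicCycle.map j B₂.δP B.δP) (CycSeqLib.cycMap_sub j _ _)
    have h1 := CycPushLib.ratEquiv_map B₂.hP B.hP j hjδ hspan
    rw [hjz, show AlgebraicCycle.map j B₂.δP B.δP (∑ i, B₂.caps t₂ (B₂.pull (c i)) (i : ℕ)) =
      ∑ i, B.caps B.std (AlgebraicCycle.map j B₂.δP B.δP (B₂.pull (c i))) (i : ℕ) from
        (map_sum M _ _).trans (Finset.sum_congr rfl fun i _ => B.map_caps_embedded B₂ hjδ _ _ _), hk] at h1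
    have h2 : Cyc.RatEquiv B.δP (k + ((m + 1 : ℕ) : ℤ))
        (∑ i, B.caps B.std (AlgebraicCycle.map j B₂.δP B.δP (B₂.pull (c i))) (i : ℕ))
        (∑ i : Fin (m + 1), B.caps B.std (B.pull (c i)) (1 + (i : ℕ))) := by
      refine CycPBLib.ratEquiv_finset_sum B.hP _ _ _ fun i _ => ?_
      have hd : k + 1 + ((i : ℕ) : ℤ) + m - ((i : ℕ) : ℤ) = k + ((m + 1 : ℕ) : ℤ) := by push_cast; ring
      have e := exists_caps_one B hE hP hF a b hab hex B₂ hj hX₂ hrange B.std (hc i)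
      have hm1 : AlgebraicCycle.map j B₂.δP B.δP (B₂.pull (c i)) ∈ Cyc.Zk P B.δP (k + 1 + ((i : ℕ) : ℤ) + m) :=
        CycPBLib.map_mem_Zk j (B₂.pull_mem (hX₂.symm ▸ hc i))
      have hm2 : B.caps B.std (B.pull (c i)) 1 ∈ Cyc.Zk P B.δP (k + 1 + ((i : ℕ) : ℤ) + m) := by
        have := B.caps_mem B.std (B.pull_mem (hc i)) 1
        rwa [show k + 1 + ((i : ℕ) : ℤ) + ((m + 1 : ℕ) : ℤ) - ((1 : ℕ) : ℤ) = k + 1 + ((i : ℕ) : ℤ) + m by
          push_cast; ring] at this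
      have e2 := B.caps_ratEquiv hm1 hm2 B.std B.std e (i : ℕ)
      have e3 := B.caps_caps (B.pull_mem (hc i)) B.std B.std B.std 1 (i : ℕ)
      rw [hd] at e2
      rw [show k + 1 + ((i : ℕ) : ℤ) + ((m + 1 : ℕ) : ℤ) - ((1 + (i : ℕ) : ℕ) : ℤ) = k + ((m + 1 : ℕ) : ℤ) by
        push_cast; ring] at e3
      exact CycCommLib.ratEquiv_trans B.hP e2 e3
    have hfin := CycCommLib.ratEquiv_trans B.hP hR (CycCommLib.ratEquiv_trans B.hP h1 h2)
    let α' : Fin (m + 1 + 1) → AlgebraicCycle X ℤ := Fin.cons α fun i => -c i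
    have hα' : ∀ i : Fin (m + 1 + 1), α' i ∈ Cyc.Zk X B.δX (k + ((i : ℕ) : ℤ)) := fun i => by
      rcases Fin.eq_zero_or_eq_succ i with rfl | ⟨i', rfl⟩
      · simpa [α'] using hα
      · intro x hx
        simp only [α', Fin.cons_succ]
        show -(c i' x) = 0
        rw [hc i' x (by rw [Fin.val_succ] at hx; push_cast at hx; omega), neg_zero]
    have h := B.independent k α' hα' (fun _ => B.std)
      (B.pull α - ∑ i : Fin (m + 1), B.caps B.std (B.pull (c i)) (1 + (i : ℕ))) (fun x => ?_) hfin 0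
    · simpa [α'] using h
    · show B.pull α x - (∑ i : Fin (m + 1), B.caps B.std (B.pull (c i)) (1 + (i : ℕ))) x = _
      conv_rhs => rw [Fin.sum_univ_succ]
      rw [Bun.cyc_sum_apply, sub_eq_add_neg, ← Finset.sum_neg_distrib]
      refine congrArg₂ (· + ·) ?_ (Finset.sum_congr rfl fun i _ => ?_)
      · simp only [α', Fin.cons_zero, Fin.val_zero]
        rfl
      · simp only [α', Fin.cons_succ, Fin.val_succ, neg_one_smul_pull, Nat.add_comm (i : ℕ) 1]

/-- Injectivity of pullback to the torsor. -/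
theorem ratEquivZero_of_torsor {δ : X → ℤ} (hX : Cyc.IsSetup X δ) (hE : FlatMod.IsFinLocFreeOfRank (n + 1) E)
    (hF : FlatMod.IsFinLocFreeOfRank n F) (a : Coh.structureModule X ⟶ E) (b : E ⟶ F) (hab : a ≫ b = 0)
    (hex : (ShortComplex.mk a b hab).ShortExact) {Y : Scheme.{u}} {πY : Y ⟶ X} [QuasiCompact πY] [QuasiSeparated πY]
    {φ : E ⟶ (Scheme.Modules.pushforward πY).obj (Coh.structureModule Y)} {c : Γ(X, ⊤)}
    (hY : IsTorsor πY φ (a.app ⊤ (1 : Γ(X, ⊤))) c) (hc : IsUnit c) {δY : Y → ℤ} (hYs : Cyc.IsSetup Y δY)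
    (hδY : Cyc.DeltaCompat πY δY δ) {k : ℤ} {α : AlgebraicCycle X ℤ} (hα : α ∈ Cyc.Zk X δ k)
    {γ : AlgebraicCycle Y ℤ} (hγ : ⇑γ = Cyc.pullFun πY δY δ n ⇑α) (h0 : Cyc.RatEquivZero δY (k + n) γ) :
    Cyc.RatEquivZero δ k α := by
  classical
  haveI := hX.1
  obtain ⟨P, p, O1, q, δP, hP, hPs, hδ, -⟩ := ProjBunLib.exists_good_bundle hX hE
  haveI := ProjBunLib.isProper hP hE
  haveI := hPs.1
  obtain ⟨B, rfl, rfl⟩ := CycPBLib.exists_bun' hE hP hX hPs hδ
  obtain ⟨θ, hθ⟩ := exists_iso q B.hinv _ hP hY hc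
  let U := sigOpen q B.hinv (a.app ⊤ (1 : Γ(X, ⊤)))
  let δU : ↥U → ℤ := fun u => B.δP (U.ι u)
  have hgU : Cyc.DeltaCompat (U.ι ≫ p) δU B.δX :=
    Bivar.deltaCompat_comp U.ι p δU B.δP B.δX (CycBivLib.deltaCompat_restrict U.ι) B.hδ
  have hUs : Cyc.IsSetup (↑U : Scheme.{u}) δU := CycBivLib.isSetup_of_lft (U.ι ≫ p) B.hX hgU
  have hθδ := CycBivLib.deltaCompat_cancel θ.hom πY hθ hδY hgU
  have hδθ : δU = fun u => δY (θ.hom u) := funext fun u => by
    obtain ⟨l, hl, h⟩ := hθδ u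
    have h0' := CycPushLib.trdeg_preimmersion_left θ.hom u
    rw [Dual3.resTrdeg, hl] at h0'
    have : l = 0 := by exact_mod_cast h0'
    rw [h, this]; simp
  have hgen : ∀ u, CycLimLib.IsGen θ.hom u → δU u = δY (θ.hom u) + ((0 : ℕ) : ℤ) := fun u _ => by
    rw [hδθ]; simp
  let γU := CycC1Lib.pullCyc θ.hom hUs hgen γ
  have hγUk : Cyc.RatEquivZero δU (k + n) γU := by
    have hγm : γ ∈ Cyc.Zk Y δY (k + n) := fun y hy => by
      rw [show γ y = _ from congrFun hγ y]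
      simp only [Cyc.pullFun]
      split_ifs with h
      · rw [hα _ (fun e => hy (by omega)), zero_mul]
      · rfl
    have := Groth.Agent.S1940.result Y _ δY δU hYs hUs θ.hom ((0 : ℕ) : ℤ) (fun u hu => hgen u hu) _ γ hγm h0 γU rfl
    simpa using this
  have hrest : ∀ u : ↥U, γU u = B.pull α (U.ι u) := fun u => by
    show Cyc.pullFun θ.hom δU δY ((0 : ℕ) : ℤ) ⇑γ u = Cyc.pullFun p B.δP B.δX n ⇑α (U.ι u)
    rw [← pullFun_openImm U.ι p rfl B.δP B.δX n ⇑α u, Nat.cast_zero, hδθ, CycBivLib.pullFun_openImmersion,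
      hγ, ← pullFun_openImm θ.hom πY hθ δY B.δX n ⇑α u]
    congr 1
    exact hδθ.symm
  obtain ⟨z, hz, hzU, hR⟩ := CycPushLib.exists_supported_on_complement B.hP U (B.pull_mem hα)
    (β := 0) (fun _ _ => rfl) (αU := γU) (βU := 0) hrest (fun _ => rfl) (by
      show Cyc.RatEquivZero _ _ _
      rw [sub_zero]
      exact hγUk)
  rw [zero_add] at hR
  exact ratEquivZero_of_off B hE hP hF a b hab hex hα hz
    (fun x hx => hzU x ((le_of_eq (genOpen_eq_sigOpen q B.hinv a)) hx)) hR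

end CycBdlLib

end
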