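import Mathlib
import Groth.Agent.CycBdlLib.Torsor
import Groth.Agent.LocSuppLib.LocFree
import Groth.Agent.AmpleThLib.Restr

/-!
# Vector and affine bundles as torsors
-/

set_option autoImplicit false
set_option linter.style.haveILetI false
set_option linter.unusedSectionVars false

universe u

open AlgebraicGeometry CategoryTheory CategoryTheory.Limits Opposite TopologicalSpace
open AmpleLib (res)

noncomputable section

namespace CycBdlLib

variable {X T Y : Scheme.{u}} {E : X.Modules}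

theorem appLE_appLE {S : Scheme.{u}} {h : T ⟶ Y} {k : S ⟶ T} {f : Y ⟶ X} {g : T ⟶ X} {g' : S ⟶ X} (hg : h ≫ f = g)
    (hk : k ≫ g = g') (W : X.Opens) (z : Γ(Y, f ⁻¹ᵁ W)) :
    k.appLE (g ⁻¹ᵁ W) (g' ⁻¹ᵁ W) (preimage_le hk W) (h.appLE (f ⁻¹ᵁ W) (g ⁻¹ᵁ W) (preimage_le hg W) z) =
      (k ≫ h).appLE (f ⁻¹ᵁ W) (g' ⁻¹ᵁ W) (preimage_le (by rw [Category.assoc, hg, hk]) W) z := by
  rw [← CommRingCat.comp_apply, Scheme.Hom.appLE_comp_appLE]

theorem appLE_of_eq {h h' : T ⟶ Y} (e : h = h') {V : Y.Opens} {W : T.Opens} (a : W ≤ h ⁻¹ᵁ V) (a' : W ≤ h' ⁻¹ᵁ V)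
    (z : Γ(Y, V)) : h.appLE V W a z = h'.appLE V W a' z := by
  subst e; rfl

/-- The value of a map composed with the pullback of functions. -/
def pullVal {f : Y ⟶ X} {g : T ⟶ X} {h : T ⟶ Y} (hg : h ≫ f = g)
    (φ : E ⟶ (Scheme.Modules.pushforward f).obj (Coh.structureModule Y)) :
    E ⟶ (Scheme.Modules.pushforward g).obj (Coh.structureModule T) :=
  ⟨PresheafOfModules.homMk
    { app := fun W => AddCommGrpCat.ofHom (AddMonoidHom.mk'
        (fun m => h.appLE (f ⁻¹ᵁ W.unop) (g ⁻¹ᵁ W.unop) (preimage_le hg W.unop) (φ.app W.unop m))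
        fun a b => (congrArg _ (map_add _ a b)).trans (map_add _ _ _))
      naturality := fun W W' i => by
        ext m
        refine (congrArg (h.appLE (f ⁻¹ᵁ W'.unop) _ (preimage_le hg W'.unop)) (QCohLib.app_map φ i.unop m)).trans ?_
        refine (CommRingCat.comp_apply _ _ _).symm.trans
          ((congr($(h.map_appLE (preimage_le hg W'.unop) (homOfLE (f.preimage_mono i.unop.le)).op) _)).trans ?_)
        exact (congr($(h.appLE_map (preimage_le hg W.unop) (homOfLE (g.preimage_mono i.unop.le)).op) _)).symm.trans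
          (CommRingCat.comp_apply _ _ _) }
    fun W r m => by
      show h.appLE (f ⁻¹ᵁ W.unop) (g ⁻¹ᵁ W.unop) (preimage_le hg W.unop) (φ.app W.unop (r • m)) =
        (g.app W.unop).hom r * h.appLE (f ⁻¹ᵁ W.unop) (g ⁻¹ᵁ W.unop) (preimage_le hg W.unop) (φ.app W.unop m)
      refine (congrArg _ (QCohLib.app_smul φ W.unop r m)).trans ((map_mul _ _ _).trans (congrArg (· * _) ?_))
      show h.appLE (f ⁻¹ᵁ W.unop) (g ⁻¹ᵁ W.unop) (preimage_le hg W.unop) (f.app W.unop r) = g.app W.unop r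
      rw [Scheme.Hom.app_eq_appLE, Scheme.Hom.app_eq_appLE, ← CommRingCat.comp_apply, Scheme.Hom.appLE_comp_appLE]
      exact appLE_of_eq hg _ _ r⟩

theorem pullVal_app {f : Y ⟶ X} {g : T ⟶ X} {h : T ⟶ Y} (hg : h ≫ f = g)
    (φ : E ⟶ (Scheme.Modules.pushforward f).obj (Coh.structureModule Y)) (W : X.Opens) (m : Γ(E, W)) :
    (pullVal hg φ).app W m = h.appLE (f ⁻¹ᵁ W) (g ⁻¹ᵁ W) (preimage_le hg W) (φ.app W m) := rfl

/-- A map from the structure sheaf is determined by the image of `1`. -/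
theorem app_of_one {M : X.Modules} (f : Coh.structureModule X ⟶ M) (W : X.Opens) (r : Γ(X, W)) :
    f.app W r = r • res M le_top (f.app ⊤ (1 : Γ(X, ⊤))) := by
  refine Eq.trans (congrArg (f.app W) ?_) ((QCohLib.app_smul f W r _).trans
    (congrArg (r • ·) (QCohLib.app_map f (homOfLE (le_top : W ≤ ⊤)) (1 : Γ(X, ⊤)))))
  exact ((congrArg (r * ·) (map_one (X.presheaf.map (homOfLE (le_top : W ≤ ⊤)).op).hom)).trans (mul_one r)).symm

theorem hom_ext_one {M : X.Modules} {f f' : Coh.structureModule X ⟶ M}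
    (h : f.app ⊤ (1 : Γ(X, ⊤)) = f'.app ⊤ (1 : Γ(X, ⊤))) : f = f' :=
  Scheme.Modules.hom_ext _ _ fun W => ConcreteCategory.hom_ext _ _ fun (r : Γ(X, W)) => by
    exact (app_of_one f W r).trans ((congrArg (fun z => (r : Γ(X, W)) • res M le_top z) h).trans (app_of_one f' W r).symm)

/-- Vector bundles are torsors. -/
theorem exists_isTorsor_vector {ℰ : X.Modules} {A : RelSpec.QCAlg X} {j : ℰ ⟶ A.toModule}
    (hA : RelSpec.IsSymAlg ℰ A j) :
    ∃ φ : Coh.structureModule X ⊞ ℰ ⟶ (Scheme.Modules.pushforward A.π).obj (Coh.structureModule A.spec),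
      IsTorsor A.π φ ((biprod.inl : Coh.structureModule X ⟶ Coh.structureModule X ⊞ ℰ).app ⊤ (1 : Γ(X, ⊤))) 1 := by
  let M := (Scheme.Modules.pushforward A.π).obj (Coh.structureModule A.spec)
  let o : Coh.structureModule X ⟶ M := QCohLib.unitHom M (1 : Γ(A.spec, A.π ⁻¹ᵁ ⊤))
  have ho : o.app ⊤ (1 : Γ(X, ⊤)) = (1 : Γ(A.spec, A.π ⁻¹ᵁ ⊤)) := by
    refine (QCohLib.unitHom_app M _ ⊤ _).trans ((one_smul Γ(X, (⊤ : X.Opens)) _).trans ?_)
    exact congr($(M.presheaf.map_id _) _)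
  have hval : ∀ {N : X.Modules} (ψ : Coh.structureModule X ⊞ ℰ ⟶ N),
      ψ.app ⊤ ((biprod.inl : Coh.structureModule X ⟶ Coh.structureModule X ⊞ ℰ).app ⊤ (1 : Γ(X, ⊤))) =
        (biprod.inl ≫ ψ).app ⊤ (1 : Γ(X, ⊤)) := fun ψ => rfl
  refine ⟨biprod.desc o (univMap j), ⟨?_, fun T g _ _ ψ hψ => ?_⟩⟩
  · rw [hval, biprod.inl_desc, map_one]
    exact ho
  obtain ⟨h, ⟨hg, hv⟩, hu⟩ := symPts hA g (biprod.inr ≫ ψ)
  have key : ∀ (h' : T ⟶ A.spec) (hg' : h' ≫ A.π = g),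
      (∀ (W : X.Opens) (m : Γ(ℰ, W)), h'.appLE (A.π ⁻¹ᵁ W) (g ⁻¹ᵁ W) (preimage_le hg' W) ((univMap j).app W m) =
        (biprod.inr ≫ ψ).app W m) ↔
      ∀ (W : X.Opens) (m : Γ(Coh.structureModule X ⊞ ℰ, W)),
        h'.appLE (A.π ⁻¹ᵁ W) (g ⁻¹ᵁ W) (preimage_le hg' W) ((biprod.desc o (univMap j)).app W m) = ψ.app W m := by
    intro h' hg'
    constructor
    · intro hh W m
      have e : pullVal hg' (biprod.desc o (univMap j)) = ψ := by
        refine biprod.hom_ext' _ _ (hom_ext_one ?_) (Scheme.Modules.hom_ext _ _ fun W => ConcreteCategory.hom_ext _ _ fun m => ?_)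
        · show h'.appLE (A.π ⁻¹ᵁ ⊤) (g ⁻¹ᵁ ⊤) (preimage_le hg' ⊤)
            ((biprod.inl ≫ biprod.desc o (univMap j)).app ⊤ (1 : Γ(X, ⊤))) = _
          rw [biprod.inl_desc, ho, map_one]
          exact ((congrArg (fun z => z) hψ).trans (map_one (g.app ⊤).hom)).symm
        · show h'.appLE (A.π ⁻¹ᵁ W) (g ⁻¹ᵁ W) (preimage_le hg' W)
            ((biprod.inr ≫ biprod.desc o (univMap j)).app W m) = _
          rw [biprod.inr_desc]
          exact hh W m
      exact congr($(e).app W m)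
    · intro hh W m
      have h1 := hh W ((biprod.inr : ℰ ⟶ Coh.structureModule X ⊞ ℰ).app W m)
      rw [show (biprod.desc o (univMap j)).app W ((biprod.inr : ℰ ⟶ Coh.structureModule X ⊞ ℰ).app W m) =
        (univMap j).app W m from congr($(biprod.inr_desc o (univMap j)).app W m)] at h1
      exact h1
  exact ⟨h, ⟨hg, (key h hg).1 hv⟩, fun h' ⟨hg', hv'⟩ => hu h' ⟨hg', (key h' hg').2 hv'⟩⟩

/-- Affine bundles are torsors. -/
theorem exists_isTorsor_affine {a : Coh.structureModule X ⟶ E} {AE : RelSpec.QCAlg X} {jE : E ⟶ AE.toModule}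
    (hAE : RelSpec.IsSymAlg E AE jE) {A1 : RelSpec.QCAlg X} {j1 : Coh.structureModule X ⟶ A1.toModule}
    (hA1 : RelSpec.IsSymAlg (Coh.structureModule X) A1 j1) (ψ : A1 ⟶ AE)
    (hψ : j1 ≫ RelSpec.QCAlg.Hom.toModuleMap ψ = a ≫ jE) (u : Coh.structureModule X ⟶ (RelSpec.QCAlg.unit X).toModule)
    (ε : A1 ⟶ RelSpec.QCAlg.unit X) (hε : j1 ≫ RelSpec.QCAlg.Hom.toModuleMap ε = u) :
    ∃ φ : E ⟶ (Scheme.Modules.pushforward (pullback.fst (RelSpec.QCAlg.specMap ψ) (RelSpec.QCAlg.specMap ε) ≫ AE.π)).obj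
        (Coh.structureModule (pullback (RelSpec.QCAlg.specMap ψ) (RelSpec.QCAlg.specMap ε))),
      IsTorsor (pullback.fst (RelSpec.QCAlg.specMap ψ) (RelSpec.QCAlg.specMap ε) ≫ AE.π) φ
        (a.app ⊤ (1 : Γ(X, ⊤))) (u.app ⊤ (1 : Γ(X, ⊤))) := by
  let U1 := RelSpec.QCAlg.unit X
  let f1 := pullback.fst (RelSpec.QCAlg.specMap ψ) (RelSpec.QCAlg.specMap ε)
  let f2 := pullback.snd (RelSpec.QCAlg.specMap ψ) (RelSpec.QCAlg.specMap ε)
  let πB := f1 ≫ AE.π
  let c : Γ(X, ⊤) := u.app ⊤ (1 : Γ(X, ⊤))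
  have hsnd : f2 ≫ U1.π = πB := by
    show _ = f1 ≫ AE.π
    rw [← RelSpec.QCAlg.specMap_π ε, ← RelSpec.QCAlg.specMap_π ψ, ← pullback.condition_assoc]
  -- the universal families along the two maps to the affine line
  have hEv : ∀ (W : X.Opens) (r : Γ(X, W)), (RelSpec.QCAlg.specMap ψ).appLE (A1.π ⁻¹ᵁ W) (AE.π ⁻¹ᵁ W)
      (preimage_le (RelSpec.QCAlg.specMap_π ψ) W) ((univMap j1).app W r) = (univMap jE).app W (a.app W r) := by
    intro W r
    rw [univMap_app, ← toF_algHom_app A1 AE.π _ (RelSpec.QCAlg.specMap_π ψ), toF_specMap]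
    exact congrArg ((toF AE).app (op W)) congr($(hψ).app W r)
  have hUv : ∀ (W : X.Opens) (r : Γ(X, W)), (RelSpec.QCAlg.specMap ε).appLE (A1.π ⁻¹ᵁ W) (U1.π ⁻¹ᵁ W)
      (preimage_le (RelSpec.QCAlg.specMap_π ε) W) ((univMap j1).app W r) =
        U1.π.app W (r * X.presheaf.map (homOfLE (le_top : W ≤ ⊤)).op c) := by
    intro W r
    rw [univMap_app, ← toF_algHom_app A1 U1.π _ (RelSpec.QCAlg.specMap_π ε), toF_specMap]
    have h1 : (toF U1).app (op W) = U1.π.app W := by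
      have h := NatTrans.congr_app (str_toF U1) (op W)
      rw [NatTrans.comp_app] at h
      exact (Category.id_comp _).symm.trans h
    show ((toF U1).app (op W)).hom ((j1 ≫ RelSpec.QCAlg.Hom.toModuleMap ε).app W r) = _
    rw [hε, h1]
    exact congrArg (U1.π.app W).hom (app_of_one u W r)
  refine ⟨pullVal (rfl : f1 ≫ AE.π = πB) (univMap jE), ⟨?_, fun T g _ _ ψ' hψ' => ?_⟩⟩
  · refine (pullVal_app _ _ _ _).trans ?_
    rw [← hEv ⊤ 1, appLE_appLE (RelSpec.QCAlg.specMap_π ψ) rfl, appLE_of_eq pullback.condition _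
      (preimage_le (by rw [Category.assoc, RelSpec.QCAlg.specMap_π, hsnd]) ⊤),
      ← appLE_appLE (RelSpec.QCAlg.specMap_π ε) hsnd, hUv, one_mul,
      show X.presheaf.map (homOfLE (le_top : (⊤ : X.Opens) ≤ ⊤)).op c = c from congr($(X.presheaf.map_id _) c),
      Scheme.Hom.app_eq_appLE, ← CommRingCat.comp_apply, Scheme.Hom.appLE_comp_appLE, Scheme.Hom.app_eq_appLE]
    exact appLE_of_eq hsnd _ _ c
  -- the value on a section of the structure sheaf
  have hψa : ∀ (W : X.Opens) (r : Γ(X, W)), ψ'.app W (a.app W r) =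
      g.app W (r * X.presheaf.map (homOfLE (le_top : W ≤ ⊤)).op c) := fun W r => by
    refine (app_of_one (a ≫ ψ') W r).trans ?_
    refine (congrArg (fun z => r • res ((Scheme.Modules.pushforward g).obj (Coh.structureModule T)) le_top z) hψ').trans ?_
    refine (congrArg (g.app W r * ·) ((CommRingCat.comp_apply _ _ _).symm.trans
      ((congr($((g.c.naturality (homOfLE (le_top : W ≤ ⊤)).op).symm) c)).trans (CommRingCat.comp_apply _ _ _)))).trans ?_
    exact (map_mul _ _ _).symm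
  obtain ⟨h₁, ⟨hg₁, hv₁⟩, hu₁⟩ := symPts hAE g ψ'
  obtain ⟨h₂, ⟨hg₂, hv₂⟩, hu₂⟩ := pts U1 g ⟨g.c, Category.id_comp _⟩
  have hcomm : h₁ ≫ RelSpec.QCAlg.specMap ψ = h₂ ≫ RelSpec.QCAlg.specMap ε := by
    obtain ⟨_, -, hu⟩ := symPts hA1 g (a ≫ ψ')
    refine (hu _ ⟨by rw [Category.assoc, RelSpec.QCAlg.specMap_π, hg₁], fun W r => ?_⟩).trans
      (hu _ ⟨by rw [Category.assoc, RelSpec.QCAlg.specMap_π, hg₂], fun W r => ?_⟩).symm
    · rw [← appLE_appLE (RelSpec.QCAlg.specMap_π ψ) hg₁, hEv]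
      exact hv₁ W _
    · rw [← appLE_appLE (RelSpec.QCAlg.specMap_π ε) hg₂, hUv]
      refine Eq.trans ?_ (hψa W r).symm
      rw [Scheme.Hom.app_eq_appLE, ← CommRingCat.comp_apply, Scheme.Hom.appLE_comp_appLE, Scheme.Hom.app_eq_appLE]
      exact appLE_of_eq hg₂ _ _ _
  have hl : pullback.lift h₁ h₂ hcomm ≫ πB = g := by
    show _ ≫ f1 ≫ AE.π = g
    rw [pullback.lift_fst_assoc, hg₁]
  refine ⟨pullback.lift h₁ h₂ hcomm, ⟨hl, fun W m => ?_⟩, ?_⟩
  · refine (congrArg _ (pullVal_app _ _ _ _)).trans ?_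
    rw [appLE_appLE rfl hl]
    exact (appLE_of_eq (pullback.lift_fst _ _ _) _ _ _).trans (hv₁ W m)
  · rintro h' ⟨hg', hv'⟩
    refine pullback.hom_ext ?_ ?_
    · rw [pullback.lift_fst]
      refine hu₁ _ ⟨by rw [Category.assoc]; exact hg', fun W m => ?_⟩
      rw [← appLE_appLE rfl hg']
      exact hv' W m
    · rw [pullback.lift_snd]
      have hg2' : (h' ≫ f2) ≫ U1.π = g := by rw [Category.assoc, hsnd, hg']
      refine hu₂ _ ⟨hg2', ?_⟩
      have h : toF U1 = U1.π.c := (Category.id_comp _).symm.trans (str_toF U1)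
      rw [h]
      exact AffAlg.algHom_comm _ _ _ _

/-- The sum of the structure sheaf and a module of rank `r` has rank `r + 1`. -/
theorem rank_structureModule_biprod {r : ℕ} {ℰ : X.Modules} (hr : FlatMod.IsFinLocFreeOfRank r ℰ) :
    FlatMod.IsFinLocFreeOfRank (r + 1) (Coh.structureModule X ⊞ ℰ) := fun x => by
  obtain ⟨U, hx, ⟨φ⟩⟩ := hr x
  have hg := (AmpleLib.one_genOn (X := X) ⊤).restrict U.ι ⊤ le_top
  let σ : Γ((Coh.structureModule X).restrict U.ι, ⊤) :=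
    AmpleLib.res (Coh.structureModule X) (le_top : U.ι ''ᵁ ⊤ ≤ ⊤) (1 : Γ(X, ⊤))
  haveI : IsIso (QCohLib.unitHom ((Coh.structureModule X).restrict U.ι) σ) := AmpleLib.isIso_unitHom σ hg
  haveI := preservesBinaryBiproducts_of_preservesBinaryCoproducts (Scheme.Modules.restrictFunctor U.ι)
  exact ⟨U, hx, ⟨(Scheme.Modules.restrictFunctor U.ι).mapBiprod _ _ ≪≫
    biprod.mapIso (asIso (QCohLib.unitHom ((Coh.structureModule X).restrict U.ι) σ)).symm φ ≪≫
      (LocSuppLib.freeModSucc (U : Scheme.{u}) r).symm⟩⟩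

end CycBdlLib

end
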